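import Mathlib.AlgebraicGeometry.SpreadingOut
import Mathlib.AlgebraicGeometry.Morphisms.FinitePresentation
import Mathlib.AlgebraicGeometry.Birational.RationalMap

/-!
# Spreading out maps from local rings into schemes of finite presentation
-/

universe u

open CategoryTheory AlgebraicGeometry TopologicalSpace Opposite

set_option backward.isDefEq.respectTransparency false

namespace Groth.Agent.LfpSpread12

variable {X Y S : Scheme.{u}}

theorem exists_lift {R A : CommRingCat.{u}} {x : X} {U : X.Opens} (hxU : x ∈ U)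
    (φ : A ⟶ X.presheaf.stalk x) (φRA : R ⟶ A) (φRX : R ⟶ Γ(X, U))
    (hφRA : φRA.hom.FinitePresentation)
    (e : φRA ≫ φ = φRX ≫ X.presheaf.germ U x hxU) :
    ∃ (V : X.Opens) (hxV : x ∈ V) (φ' : A ⟶ Γ(X, V)) (i : V ≤ U), IsAffineOpen V ∧
      φ = φ' ≫ X.presheaf.germ V x hxV ∧ φRX ≫ X.presheaf.map i.hom.op = φRA ≫ φ' := by
  classical
  let _ := φRA.hom.toAlgebra
  have hA : Algebra.FinitePresentation R A := hφRA
  obtain ⟨n, π, hπ, G, hG⟩ := hA.out
  choose W hxW w hw using fun t : Fin n => X.presheaf.exists_germ_eq (φ (π (MvPolynomial.X t)))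
  let U1 := Finset.univ.inf W ⊓ U
  have hx1 : x ∈ U1 := by
    refine ⟨?_, hxU⟩
    rw [Opens.coe_finset_inf]
    simpa using hxW
  have h1 : ∀ t, U1 ≤ W t := fun t => inf_le_left.trans (Finset.inf_le (Finset.mem_univ t))
  let ev : MvPolynomial (Fin n) R →+* Γ(X, U1) :=
    MvPolynomial.eval₂Hom ((φRX ≫ X.presheaf.map (homOfLE (inf_le_right : U1 ≤ U)).op).hom)
      fun t => X.presheaf.map (homOfLE (h1 t)).op (w t)
  have hev : (X.presheaf.germ U1 x hx1).hom.comp ev = φ.hom.comp π.toRingHom := by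
    refine MvPolynomial.ringHom_ext (fun r => ?_) fun t => ?_
    · show X.presheaf.germ U1 x hx1 (ev (MvPolynomial.C r)) = φ (π (MvPolynomial.C r))
      rw [show π (MvPolynomial.C r) = φRA r from π.commutes r]
      simp only [ev, MvPolynomial.eval₂Hom_C, CommRingCat.hom_comp]
      erw [X.presheaf.germ_res_apply]
      exact congr($e r).symm
    · show X.presheaf.germ U1 x hx1 (ev (MvPolynomial.X t)) = φ (π (MvPolynomial.X t))
      simp only [ev, MvPolynomial.eval₂Hom_X']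
      erw [X.presheaf.germ_res_apply]
      exact hw t
  have hvan : ∀ g ∈ G, ∃ (W' : X.Opens) (_ : x ∈ W') (hle : W' ≤ U1),
      X.presheaf.map (homOfLE hle).op (ev g) = 0 := fun g hg => by
    have hg0 : X.presheaf.germ U1 x hx1 (ev g) = X.presheaf.germ U1 x hx1 0 := by
      rw [map_zero]
      refine (congr($hev g)).trans ?_
      have : π g = 0 := RingHom.mem_ker.1 (show g ∈ RingHom.ker π.toRingHom from hG ▸ Ideal.subset_span hg)
      show φ (π g) = 0
      rw [this, map_zero]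
    obtain ⟨W', hW', i₁, i₂, he⟩ := X.presheaf.germ_eq x hx1 hx1 _ _ hg0
    exact ⟨W', hW', i₁.le, he.trans (map_zero _)⟩
  choose W' hxW' hle' hW'0 using hvan
  have hx2 : x ∈ (G.attach.inf fun g => W' g.1 g.2) ⊓ U1 :=
    ⟨Finset.inf_induction (p := fun Z : X.Opens => x ∈ Z) trivial (fun a ha b hb => ⟨ha, hb⟩)
      fun g _ => hxW' g.1 g.2, hx1⟩
  obtain ⟨V, hV, hxV, hVle⟩ := exists_isAffineOpen_mem_and_subset hx2
  have hV1 : V ≤ U1 := le_trans hVle inf_le_right
  let evV : MvPolynomial (Fin n) R →+* Γ(X, V) := (X.presheaf.map (homOfLE hV1).op).hom.comp ev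
  have hkill : RingHom.ker π.toRingHom ≤ RingHom.ker evV := by
    rw [← hG, Ideal.span_le]
    intro g hg
    have hgV : V ≤ W' g hg :=
      le_trans hVle (inf_le_left.trans (Finset.inf_le (Finset.mem_attach G ⟨g, hg⟩)))
    show X.presheaf.map (homOfLE hV1).op (ev g) = 0
    rw [← homOfLE_comp hgV (hle' g hg), op_comp, Functor.map_comp, CategoryTheory.comp_apply, hW'0, map_zero]
  let φ' : A →+* Γ(X, V) := RingHom.liftOfSurjective π.toRingHom hπ ⟨evV, hkill⟩
  have hφ' : ∀ z, φ' (π z) = evV z := fun z =>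
    RingHom.liftOfRightInverse_comp_apply _ _ _ _ z
  refine ⟨V, hxV, CommRingCat.ofHom φ', le_trans hV1 inf_le_right, hV, ?_, ?_⟩
  · ext a
    obtain ⟨z, rfl⟩ := hπ a
    show φ (π z) = X.presheaf.germ V x hxV (φ' (π z))
    rw [hφ']
    show _ = X.presheaf.germ V x hxV (X.presheaf.map (homOfLE hV1).op (ev z))
    rw [X.presheaf.germ_res_apply]
    exact (congr($hev z)).symm
  · ext r
    show X.presheaf.map (homOfLE (le_trans hV1 inf_le_right)).op (φRX r) = φ' (φRA r)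
    rw [← show π (MvPolynomial.C r) = φRA r from π.commutes r, hφ']
    show _ = X.presheaf.map (homOfLE hV1).op (ev (MvPolynomial.C r))
    simp only [ev, MvPolynomial.eval₂Hom_C, CommRingCat.hom_comp]
    rw [← homOfLE_comp hV1 (inf_le_right : U1 ≤ U), op_comp, Functor.map_comp]
    rfl

variable (sX : X ⟶ S) (sY : Y ⟶ S)

theorem exists_spread [LocallyOfFinitePresentation sY] {x : X} {y : Y}
    (e : sX x = sY y) (φ : Y.presheaf.stalk y ⟶ X.presheaf.stalk x)
    (h : sY.stalkMap y ≫ φ =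
      S.presheaf.stalkSpecializes (Inseparable.of_eq e).specializes ≫ sX.stalkMap x) :
    ∃ (U : X.Opens) (hxU : x ∈ U) (f : U.toScheme ⟶ Y),
      Spec.map φ ≫ Y.fromSpecStalk y = U.fromSpecStalkOfMem x hxU ≫ f ∧
      f ≫ sY = U.ι ≫ sX := by
  obtain ⟨_, ⟨U, hU, rfl⟩, hxU, -⟩ :=
    S.isBasis_affineOpens.exists_subset_of_mem_open (Set.mem_univ (sX x)) isOpen_univ
  have hyU : sY y ∈ U := e ▸ hxU
  obtain ⟨_, ⟨V : Y.Opens, hV, rfl⟩, hyV, iVU⟩ :=
    Y.isBasis_affineOpens.exists_subset_of_mem_open hyU (sY ⁻¹ᵁ U).2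
  have : sY.appLE U V iVU ≫ Y.presheaf.germ V y hyV ≫ φ =
      sX.app U ≫ X.presheaf.germ (sX ⁻¹ᵁ U) x hxU := by
    rw [Scheme.Hom.appLE, Category.assoc, Y.presheaf.germ_res_assoc,
      ← Scheme.Hom.germ_stalkMap_assoc, h]
    simp
  obtain ⟨W, hxW, φ', i, hW, h₁, h₂⟩ :=
    exists_lift (R := Γ(S, U)) (A := Γ(Y, V)) (U := sX ⁻¹ᵁ U) (x := x) hxU
    (Y.presheaf.germ _ y hyV ≫ φ) (sY.appLE U V iVU) (sX.app U)
    (sY.finitePresentation_appLE hU hV _) this
  refine ⟨W, hxW, W.toSpecΓ ≫ Spec.map φ' ≫ hV.fromSpec, ?_, ?_⟩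
  · rw [W.fromSpecStalkOfMem_toSpecΓ_assoc x hxW, ← Spec.map_comp_assoc, ← h₁,
      Spec.map_comp, Category.assoc, ← IsAffineOpen.fromSpecStalk,
      IsAffineOpen.fromSpecStalk_eq_fromSpecStalk]
  · simp only [Category.assoc]
    rw [← IsAffineOpen.SpecMap_appLE_fromSpec sY hU hV iVU, ← Spec.map_comp_assoc, ← h₂,
      ← Scheme.Hom.appLE, ← hW.isoSpec_hom, IsAffineOpen.SpecMap_appLE_fromSpec sX hU hW i,
      ← Iso.eq_inv_comp, IsAffineOpen.isoSpec_inv_ι_assoc]

theorem exists_spread' [LocallyOfFinitePresentation sY] {x : X}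
    (φ : Spec (X.presheaf.stalk x) ⟶ Y) (h : φ ≫ sY = X.fromSpecStalk x ≫ sX) :
    ∃ (U : X.Opens) (hxU : x ∈ U) (f : U.toScheme ⟶ Y),
      φ = U.fromSpecStalkOfMem x hxU ≫ f ∧ f ≫ sY = U.ι ≫ sX := by
  have := exists_spread sX sY ?_ (Scheme.stalkClosedPointTo φ) ?_
  · simpa only [Scheme.Spec_stalkClosedPointTo_fromSpecStalk] using this
  · rw [← Scheme.Hom.comp_apply, h, Scheme.Hom.comp_apply, Scheme.fromSpecStalk_closedPoint]
  · apply Spec.map_injective
    rw [← cancel_mono (S.fromSpecStalk _)]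
    simpa only [Spec.map_comp, Category.assoc, Scheme.SpecMap_stalkMap_fromSpecStalk,
      Scheme.Spec_stalkClosedPointTo_fromSpecStalk_assoc,
      Scheme.SpecMap_stalkSpecializes_fromSpecStalk]

theorem exists_rationalMap [X.Over S] [Y.Over S] [IrreducibleSpace X]
    [LocallyOfFinitePresentation (Y ↘ S)]
    (φ : Spec (X.presheaf.stalk (genericPoint X)) ⟶ Y)
    (hφ : φ ≫ (Y ↘ S) = X.fromSpecStalk (genericPoint X) ≫ (X ↘ S)) :
    ∃ f : X ⤏ Y, f.IsOver S ∧ f.fromFunctionField = φ := by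
  obtain ⟨U, hU, f, hf, hover⟩ := exists_spread' (X ↘ S) (Y ↘ S) φ hφ
  let P : X.PartialMap Y := ⟨U, U.2.dense ⟨_, hU⟩, f⟩
  have hP : P.IsOver S := ⟨hover⟩
  exact ⟨P.toRationalMap, inferInstance, hf.symm⟩

end Groth.Agent.LfpSpread12
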